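import Mathlib
import Cfsg.Prelude.Def_Solvable
import Cfsg.Agent.Lib.Core.Fitting

/-!
# Fixed-point-free automorphisms `σ` with `σ ^ 4 = 1`

For a solvable group `G` the derived subgroup is nilpotent.  The key point: on an elementary
abelian `p`-group `V`, every commutative `p'`-group of automorphisms normalised by `σ` is
centralised by `σ ^ 2`.
-/

set_option autoImplicit false

namespace Cfsg.Agent.Lib.FpfFour

open scoped commutatorElement
open Cfsg.Agent.Lib

universe u

section Elementary

variable {G : Type*} [Group G] [Finite G]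

/-- For a fixed-point-free automorphism every element is `g⁻¹ σ(g)`. -/
theorem exists_inv_mul (σ : MulAut G) (hfpf : ∀ g : G, σ g = g → g = 1) (x : G) :
    ∃ g : G, g⁻¹ * σ g = x := by
  have hinj : Function.Injective (fun g : G => g⁻¹ * σ g) := by
    intro a b hab
    simp only at hab
    have h1 : σ (b * a⁻¹) = b * a⁻¹ := by
      rw [map_mul, map_inv]
      have hb : σ b = b * (a⁻¹ * σ a) := by rw [hab]; group
      rw [hb]; group
    exact (mul_inv_eq_one.mp (hfpf _ h1)).symm
  exact (Finite.injective_iff_surjective.mp hinj) x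

/-- A fixed-point-free automorphism is fixed-point-free modulo an invariant subgroup. -/
theorem mem_of_inv_mul_mem (σ : MulAut G) (hfpf : ∀ g : G, σ g = g → g = 1) {N : Subgroup G}
    (hN : ∀ n ∈ N, σ n ∈ N) {x : G} (hx : x⁻¹ * σ x ∈ N) : x ∈ N := by
  have hinj : Function.Injective (fun g : N => (⟨(g : G)⁻¹ * σ g,
      N.mul_mem (N.inv_mem g.2) (hN g g.2)⟩ : N)) := by
    intro a b hab
    have hab' : (a : G)⁻¹ * σ a = (b : G)⁻¹ * σ b := congrArg Subtype.val hab
    have h1 : σ ((b : G) * (a : G)⁻¹) = (b : G) * (a : G)⁻¹ := by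
      rw [map_mul, map_inv]
      have hb : σ (b : G) = b * ((a : G)⁻¹ * σ a) := by rw [hab']; group
      rw [hb]; group
    exact Subtype.ext (mul_inv_eq_one.mp (hfpf _ h1)).symm
  obtain ⟨y, hy⟩ := Finite.injective_iff_surjective.mp hinj ⟨_, hx⟩
  have hy' : (y : G)⁻¹ * σ y = x⁻¹ * σ x := congrArg Subtype.val hy
  have h1 : σ (x * (y : G)⁻¹) = x * (y : G)⁻¹ := by
    rw [map_mul, map_inv]
    have hb : σ x = x * ((y : G)⁻¹ * σ y) := by rw [hy']; group
    rw [hb]; group
  rw [mul_inv_eq_one.mp (hfpf _ h1)]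
  exact y.2

theorem pow_four_apply {σ : MulAut G} (h4 : σ ^ 4 = 1) (x : G) : σ (σ (σ (σ x))) = x := by
  have : (σ * σ * σ * σ) x = x := by
    rw [show σ * σ * σ * σ = σ ^ 4 by simp [pow_succ, mul_assoc], h4]; rfl
  exact this

theorem odd_card {σ : MulAut G} (h4 : σ ^ 4 = 1) (hfpf : ∀ g : G, σ g = g → g = 1) :
    Odd (Nat.card G) := by
  have hp : IsPGroup 2 (Subgroup.zpowers σ) := by
    rintro ⟨τ, hτ⟩
    obtain ⟨i, rfl⟩ := Subgroup.mem_zpowers_iff.mp hτ
    refine ⟨2, Subtype.ext ?_⟩
    simp only [Subgroup.coe_pow, Subgroup.coe_one]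
    rw [← zpow_natCast, ← zpow_mul, mul_comm, zpow_mul]
    simp [show σ ^ (4 : ℤ) = 1 from by exact_mod_cast h4]
  haveI : Fact (Nat.Prime 2) := ⟨Nat.prime_two⟩
  have hmod := hp.card_modEq_card_fixedPoints G
  have hfix : MulAction.fixedPoints (Subgroup.zpowers σ) G = {1} := by
    ext g
    simp only [MulAction.mem_fixedPoints, Set.mem_singleton_iff]
    constructor
    · intro h; exact hfpf g (h ⟨σ, Subgroup.mem_zpowers σ⟩)
    · rintro rfl ⟨τ, _⟩; exact map_one τ
  rw [hfix, Nat.card_unique (α := ({1} : Set G))] at hmod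
  rw [Nat.odd_iff]
  exact hmod

theorem eq_one_of_sq (hodd : Odd (Nat.card G)) {x : G} (hx : x * x = 1) : x = 1 := by
  obtain ⟨k, hk⟩ := hodd
  have h1 : x ^ Nat.card G = 1 := pow_card_eq_one'
  rwa [hk, pow_succ, pow_mul, pow_two, hx, one_pow, one_mul] at h1

/-- If moreover `σ ^ 2` is trivial, the group is commutative. -/
theorem mul_comm_of_sq (σ : MulAut G) (hfpf : ∀ g : G, σ g = g → g = 1)
    (hsq : ∀ g : G, σ (σ g) = g) (a b : G) : a * b = b * a := by
  have hinv : ∀ x, σ x = x⁻¹ := by
    intro x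
    obtain ⟨g, rfl⟩ := exists_inv_mul σ hfpf x
    rw [map_mul, map_inv, hsq]; group
  have h := map_mul σ a⁻¹ b⁻¹
  simpa [hinv] using h.symm

/-- The main commutator argument on a nilpotent group. -/
theorem sq_apply_eq_of_abelian [Group.IsNilpotent G] (σ : MulAut G) (h4 : σ ^ 4 = 1)
    (hfpf : ∀ g : G, σ g = g → g = 1)
    (hab : ∀ A : Subgroup G, IsMulCommutative A → (∀ a ∈ A, σ a ∈ A) → ∀ a ∈ A, σ (σ a) = a)
    (x : G) : σ (σ x) = x := by
  have hodd := odd_card h4 hfpf
  obtain ⟨A, -, hAmax⟩ := (Set.toFinite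
      {A : Subgroup G | A.Normal ∧ IsMulCommutative A ∧ ∀ a ∈ A, σ a ∈ A}).exists_le_maximal
    (a := ⊥) ⟨inferInstance, inferInstance, by simp⟩
  obtain ⟨hAn, hAc, hAs⟩ := hAmax.prop
  haveI := hAn
  have htA := hab A hAc hAs
  set B := Subgroup.centralizer (A : Set G) with hB
  have hBs : ∀ b ∈ B, σ b ∈ B := by
    intro b hb
    rw [hB, Subgroup.mem_centralizer_iff] at hb ⊢
    intro a ha
    have ha' : σ (σ (σ a)) ∈ A := hAs _ (hAs _ (hAs _ ha))
    have := congrArg σ (hb _ ha')
    rwa [map_mul, map_mul, pow_four_apply h4] at this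
  have hBA : B ≤ A := by
    by_contra hnot
    classical
    obtain ⟨c0, hc0⟩ := Subgroup.nilpotent_iff_lowerCentralSeries.mp
      (show Group.IsNilpotent G from inferInstance)
    have hex : ∃ j, B ⊓ (⊤ : Subgroup G).lowerCentralSeries j ≤ A := ⟨c0, by rw [hc0]; simp⟩
    have hspec := Nat.find_spec hex
    obtain ⟨j, hj⟩ : ∃ j, Nat.find hex = j + 1 :=
      Nat.exists_eq_succ_of_ne_zero fun h0 => hnot (by simpa [h0] using hspec)
    obtain ⟨b0, hb0, hb0A⟩ := Set.not_subset.mp (Nat.find_min hex (show j < _ by omega))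
    rw [hj] at hspec
    -- `Z`: elements of `B` central modulo `A`
    set Z : Subgroup G := B ⊓ (Subgroup.center (G ⧸ A)).comap (QuotientGroup.mk' A) with hZ
    have hmemZ : ∀ y ∈ B, (∀ g : G, ⁅y, g⁆ ∈ A) → y ∈ Z := by
      intro y hy h
      refine ⟨hy, Subgroup.mem_center_iff.mpr fun q => ?_⟩
      obtain ⟨g, rfl⟩ := QuotientGroup.mk'_surjective A q
      have h1 := h g
      rw [← QuotientGroup.eq_one_iff, ← QuotientGroup.mk'_apply, map_commutatorElement,
        commutatorElement_eq_one_iff_mul_comm] at h1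
      exact h1.symm
    have hZc : ∀ y ∈ Z, ∀ g : G, ⁅y, g⁆ ∈ A := by
      intro y hy g
      have h1 := Subgroup.mem_center_iff.mp hy.2 (QuotientGroup.mk' A g)
      rw [← QuotientGroup.eq_one_iff, ← QuotientGroup.mk'_apply, map_commutatorElement,
        commutatorElement_eq_one_iff_mul_comm]
      exact h1.symm
    have hZs : ∀ y ∈ Z, σ y ∈ Z := by
      intro y hy
      refine hmemZ _ (hBs _ hy.1) fun g => ?_
      have h1 := hAs _ (hZc y hy (σ.symm g))
      rwa [map_commutatorElement, MulEquiv.apply_symm_apply] at h1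
    have hb0Z : b0 ∈ Z := hmemZ _ hb0.1 fun g =>
      hspec ⟨(Subgroup.commutator_le_left B ⊤)
          (Subgroup.commutator_mem_commutator hb0.1 (Subgroup.mem_top g)),
        by
          rw [Subgroup.lowerCentralSeries_succ]
          exact Subgroup.commutator_mem_commutator hb0.2 (Subgroup.mem_top g)⟩
    -- work modulo `A`
    set π := QuotientGroup.mk' A with hπ
    have hπA : ∀ y, π y = 1 ↔ y ∈ A := fun y => QuotientGroup.eq_one_iff y
    have hπc : ∀ y ∈ Z, ∀ w, π y * π w = π w * π y := fun y hy w =>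
      (Subgroup.mem_center_iff.mp hy.2 _).symm
    have hπs : ∀ y w, π y = π w → π (σ y) = π (σ w) := by
      intro y w h
      rw [hπ, QuotientGroup.mk'_eq_mk'] at h ⊢
      obtain ⟨a, ha, rfl⟩ := h
      exact ⟨σ a, hAs a ha, by rw [map_mul]⟩
    -- an element `c` with `σ² c ≡ c^±1`
    obtain ⟨c, hcZ, hcA, hcor⟩ : ∃ c ∈ Z, c ∉ A ∧
        (π (σ (σ c)) = π c ∨ π (σ (σ c)) = (π c)⁻¹) := by
      set t := σ (σ b0) with ht
      have htZ : t ∈ Z := hZs _ (hZs _ hb0Z)
      by_cases hplus : b0 * t ∈ A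
      · refine ⟨b0 * t⁻¹, Z.mul_mem hb0Z (Z.inv_mem htZ), ?_, ?_⟩
        · intro hminus
          have h1 : π b0 * π t = 1 := by rw [← map_mul, hπA]; exact hplus
          have h2 : π b0 * (π t)⁻¹ = 1 := by rw [← map_inv, ← map_mul, hπA]; exact hminus
          rw [mul_inv_eq_one] at h2
          rw [← h2] at h1
          apply hb0A
          obtain ⟨k, hk⟩ := hodd
          have h3 : π b0 ^ Nat.card G = 1 := by rw [← map_pow, pow_card_eq_one', map_one]
          rw [hk, pow_succ, pow_mul, pow_two, h1, one_pow, one_mul] at h3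
          exact (hπA _).mp h3
        · right
          rw [map_mul, map_mul, map_inv, map_inv, ← ht, show σ (σ t) = b0 by
            rw [ht, pow_four_apply h4]]
          simp only [map_mul, map_inv, mul_inv_rev, inv_inv]
      · refine ⟨b0 * t, Z.mul_mem hb0Z htZ, hplus, Or.inl ?_⟩
        rw [map_mul, map_mul, ← ht, show σ (σ t) = b0 by rw [ht, pow_four_apply h4]]
        simp only [map_mul]
        exact hπc _ htZ _
    have hscZ := hZs _ hcZ
    -- `c` commutes with `σ c`
    have hcomm : c * σ c = σ c * c := by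
      rcases hcor with hp | hm
      · have hd : c * σ c ∈ A := by
          refine mem_of_inv_mul_mem σ hfpf hAs ?_
          rw [← hπA, map_mul, map_inv, inv_mul_eq_one]
          rw [map_mul σ, map_mul π, map_mul π, hp]
          exact hπc _ hcZ _
        have hh : (c * σ c) * c = c * (c * σ c) :=
          (Subgroup.mem_centralizer_iff.mp hcZ.1 _ hd)
        rw [mul_assoc] at hh
        exact (mul_left_cancel hh).symm
      · obtain ⟨a, ha, he⟩ : ∃ a ∈ A, c⁻¹ * a = σ (σ c) :=
          (QuotientGroup.mk'_eq_mk' A).mp (show π c⁻¹ = π (σ (σ c)) by rw [map_inv, hm])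
        set k := ⁅c, σ c⁆ with hk
        have hkA : k ∈ A := hZc c hcZ _
        have hkc : c * k = k * c := (Subgroup.mem_centralizer_iff.mp hcZ.1 _ hkA).symm
        have hac : σ c * a = a * σ c := (Subgroup.mem_centralizer_iff.mp hscZ.1 _ ha).symm
        have h1 : σ k = ⁅σ c, c⁻¹⁆ := by
          rw [hk, map_commutatorElement, ← he, commutatorElement_def, commutatorElement_def]
          calc σ c * (c⁻¹ * a) * (σ c)⁻¹ * (c⁻¹ * a)⁻¹
              = σ c * c⁻¹ * (a * (σ c)⁻¹ * a⁻¹) * c := by group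
            _ = σ c * c⁻¹ * (σ c)⁻¹ * c := by
                rw [show a * (σ c)⁻¹ * a⁻¹ = (σ c)⁻¹ by
                  rw [show a * (σ c)⁻¹ = (σ c)⁻¹ * a from
                    (Commute.inv_right (show Commute a (σ c) from hac.symm)).eq]
                  group]
            _ = σ c * c⁻¹ * (σ c)⁻¹ * c⁻¹⁻¹ := by group
        have h2 : ⁅σ c, c⁻¹⁆ = c⁻¹ * k * c := by
          rw [hk, commutatorElement_def, commutatorElement_def]; group
        have h3 : c⁻¹ * k * c = k := by rw [mul_assoc, ← hkc]; group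
        have : k = 1 := hfpf k (by rw [h1, h2, h3])
        exact commutatorElement_eq_one_iff_mul_comm.mp this
    -- the bigger abelian subgroup
    set A' := A ⊔ Subgroup.closure {c, σ c} with hA'
    have hA'Z : A' ≤ Z := by
      refine sup_le (fun a ha => hmemZ a ?_ fun g => ?_) ?_
      · exact Subgroup.mem_centralizer_iff.mpr fun b hb =>
          hAc.is_comm.comm ⟨b, hb⟩ ⟨a, ha⟩ |> congrArg Subtype.val
      · exact (Subgroup.commutator_le_left A ⊤)
          (Subgroup.commutator_mem_commutator ha (Subgroup.mem_top g))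
      · rw [Subgroup.closure_le]
        rintro y (rfl | rfl)
        exacts [hcZ, hscZ]
    have hA'n : A'.Normal := by
      refine ⟨fun y hy g => ?_⟩
      have h1 : ⁅g, y⁆ ∈ A := by
        rw [← commutatorElement_inv]; exact A.inv_mem (hZc y (hA'Z hy) g)
      have h2 := A'.mul_mem (le_sup_left (α := Subgroup G) h1) hy
      rwa [commutatorElement_def, inv_mul_cancel_right] at h2
    have hA'c : IsMulCommutative A' := by
      have h1 : A' = Subgroup.closure ((A : Set G) ∪ {c, σ c}) := by
        rw [Subgroup.closure_union, Subgroup.closure_eq]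
      have hB1 : ∀ b ∈ B, ∀ a ∈ A, a * b = b * a := fun b hb a ha =>
        Subgroup.mem_centralizer_iff.mp hb a ha
      rw [h1]
      refine Subgroup.isMulCommutative_closure ?_
      intro y hy w hw
      rcases hy with hy | rfl | rfl <;> rcases hw with hw | rfl | rfl
      · exact hAc.is_comm.comm ⟨y, hy⟩ ⟨w, hw⟩ |> congrArg Subtype.val
      · exact hB1 _ hcZ.1 _ hy
      · exact hB1 _ hscZ.1 _ hy
      · exact (hB1 _ hcZ.1 _ hw).symm
      · rfl
      · exact hcomm
      · exact (hB1 _ hscZ.1 _ hw).symm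
      · exact hcomm.symm
      · rfl
    have hcA' : c ∈ A' := le_sup_right (α := Subgroup G) (Subgroup.subset_closure (Or.inl rfl))
    have hscA' : σ c ∈ A' := le_sup_right (α := Subgroup G) (Subgroup.subset_closure (Or.inr rfl))
    have hA's : ∀ y ∈ A', σ y ∈ A' := by
      suffices A' ≤ A'.comap σ.toMonoidHom from fun y hy => this hy
      refine sup_le (fun a ha => le_sup_left (α := Subgroup G) (hAs a ha)) ?_
      rw [Subgroup.closure_le]
      rintro y (rfl | rfl)
      · exact hscA'
      · show σ (σ c) ∈ A'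
        rcases hcor with hp | hm
        · obtain ⟨a, ha, he⟩ := (QuotientGroup.mk'_eq_mk' A).mp hp.symm
          rw [← he]; exact A'.mul_mem hcA' (le_sup_left (α := Subgroup G) ha)
        · obtain ⟨a, ha, he⟩ := (QuotientGroup.mk'_eq_mk' A).mp
            (show π c⁻¹ = π (σ (σ c)) by rw [map_inv, hm])
          rw [← he]; exact A'.mul_mem (A'.inv_mem hcA') (le_sup_left (α := Subgroup G) ha)
    exact hcA (hAmax.eq_of_le ⟨hA'n, hA'c, hA's⟩ le_sup_left ▸ hcA')
  -- conclusion
  set u := x⁻¹ * σ (σ x) with hu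
  have huB : u ∈ B := by
    rw [hB, Subgroup.mem_centralizer_iff]
    intro a ha
    have h1 := htA _ (hAn.conj_mem a ha x)
    simp only [map_mul, map_inv, htA a ha] at h1
    have h2 : σ (σ x) * a = x * a * x⁻¹ * σ (σ x) := by rw [← h1]; group
    rw [hu, mul_assoc, h2]; group
  have hut : σ (σ u) = u := htA _ (hBA huB)
  have hxu : σ (σ x) = x * u := by rw [hu]; group
  have huu : u * u = 1 := by
    have h1 := pow_four_apply h4 x
    rw [hxu, map_mul, map_mul, hxu, hut] at h1
    rw [mul_assoc] at h1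
    exact mul_eq_left.mp h1
  rw [hxu, eq_one_of_sq hodd huu, mul_one]

end Elementary

end Cfsg.Agent.Lib.FpfFour
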