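import Cfsg.Agent.Lib.FpfFour.Basic

/-!
# Solvable groups with a fixed-point-free automorphism `σ`, `σ ^ 4 = 1`
-/

set_option autoImplicit false

namespace Cfsg.Agent.Lib.FpfFour

open scoped commutatorElement
open Cfsg.Agent.Lib

universe u

/-- If a union of three subgroups of an abelian group of exponent an odd prime is everything,
one of them is everything. -/
theorem top_of_three {A : Type*} [AddCommGroup A] {p : ℕ} (hp : Odd p) (hA : ∀ x : A, p • x = 0)
    (K₁ K₂ K₃ : AddSubgroup A) (h : ∀ x, x ∈ K₁ ∨ x ∈ K₂ ∨ x ∈ K₃) :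
    K₁ = ⊤ ∨ K₂ = ⊤ ∨ K₃ = ⊤ := by
  have hhalf : ∀ (K : AddSubgroup A) (x : A), x + x ∈ K → x ∈ K := by
    intro K x hx
    obtain ⟨k, hk⟩ := hp
    have h1 : (k + 1) • (x + x) = x := by
      have := hA x
      rw [hk, add_nsmul, one_nsmul] at this
      rw [← two_nsmul, ← mul_nsmul, show 2 * (k + 1) = (2 * k + 1) + 1 by ring, add_nsmul,
        one_nsmul, ← hk, hA, zero_add]
    exact h1 ▸ K.nsmul_mem hx _
  by_contra hne
  push Not at hne
  obtain ⟨hn1, hn2, hn3⟩ := hne
  have h1 : ∃ x, x ∈ K₁ ∧ x ∉ K₂ ∧ x ∉ K₃ := by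
    by_contra hall
    push Not at hall
    have hcov : ∀ x, x ∈ K₂ ∨ x ∈ K₃ := by
      intro x
      rcases h x with hx | hx | hx
      · by_cases hx2 : x ∈ K₂
        · exact Or.inl hx2
        · exact Or.inr (hall x hx hx2)
      · exact Or.inl hx
      · exact Or.inr hx
    obtain ⟨a, -, ha⟩ := SetLike.exists_of_lt (lt_top_iff_ne_top.mpr hn2)
    obtain ⟨b, -, hb⟩ := SetLike.exists_of_lt (lt_top_iff_ne_top.mpr hn3)
    have ha3 := (hcov a).resolve_left ha
    have hb2 := (hcov b).resolve_right hb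
    rcases hcov (a + b) with hc | hc
    · exact ha (by simpa using K₂.sub_mem hc hb2)
    · exact hb (by simpa using K₃.sub_mem hc ha3)
  obtain ⟨x, hx1, hx2, hx3⟩ := h1
  obtain ⟨y, -, hy⟩ := SetLike.exists_of_lt (lt_top_iff_ne_top.mpr hn1)
  have e0 : y ∈ K₂ ∨ y ∈ K₃ := (h y).resolve_left hy
  have e1 : y + x ∈ K₂ ∨ y + x ∈ K₃ := (h (y + x)).resolve_left fun hh =>
    hy (by simpa using K₁.sub_mem hh hx1)
  have e2 : y + (x + x) ∈ K₂ ∨ y + (x + x) ∈ K₃ := (h (y + (x + x))).resolve_left fun hh =>
    hy (by simpa using K₁.sub_mem hh (K₁.add_mem hx1 hx1))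
  rcases e0 with a | a <;> rcases e1 with b | b <;> rcases e2 with c | c
  all_goals first
    | exact hx2 (by simpa using K₂.sub_mem b a)
    | exact hx3 (by simpa using K₃.sub_mem b a)
    | exact hx2 (hhalf _ _ (by simpa using K₂.sub_mem c a))
    | exact hx3 (hhalf _ _ (by simpa using K₃.sub_mem c a))
    | exact hx2 (by simpa using K₂.sub_mem c b)
    | exact hx3 (by simpa using K₃.sub_mem c b)

/-- An automorphism, as an additive endomorphism. -/
def toEnd (V : Type*) [CommGroup V] : MulAut V →* AddMonoid.End (Additive V) where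
  toFun φ := MonoidHom.toAdditive φ.toMonoidHom
  map_one' := rfl
  map_mul' _ _ := rfl

variable {V : Type*} [CommGroup V] [Finite V] {p : ℕ} [Fact p.Prime]

theorem toEnd_apply (φ : MulAut V) (v : V) :
    toEnd V φ (Additive.ofMul v) = Additive.ofMul (φ v) := rfl

theorem toEnd_injective : Function.Injective (toEnd V) := by
  intro a b h
  ext v
  have := congrArg (fun e : AddMonoid.End (Additive V) => e (Additive.ofMul v)) h
  exact this

theorem ring_key {R E : Type*} [CommRing R] [Ring E] (ι : R →+* E) (hι : Function.Injective ι) (S : E)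
    (s : R →+* R) (hF : ∀ r, ι r + ι (s r) * S + ι (s (s r)) * (S * S)
      + ι (s (s (s r))) * (S * (S * S)) = 0) (a : R) :
    (a - s a) * (a - s (s (s a))) * (a - s (s a)) = 0 := by
  have hg : ∀ a r : R, ι ((a - s a) * r) + ι ((s (s a) - s a) * s (s r)) * (S * S)
      + ι ((s (s (s a)) - s a) * s (s (s r))) * (S * (S * S)) = 0 := by
    intro a r
    have h1 := hF (a * r)
    have h2 : ι (s a) * (ι r + ι (s r) * S + ι (s (s r)) * (S * S)
      + ι (s (s (s r))) * (S * (S * S))) = 0 := by rw [hF r, mul_zero]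
    simp only [mul_add, ← mul_assoc (ι (s a)), ← map_mul] at h2
    simp only [map_mul s] at h1
    simp only [sub_mul, map_sub]
    rw [← sub_self (0 : E)]
    conv_rhs => arg 1; rw [← h1]
    conv_rhs => arg 2; rw [← h2]
    simp only [map_mul]
    abel
  have hh : ∀ a c r : R, ι ((a - s a) * (c - s (s (s c))) * r) +
      ι ((s (s a) - s a) * (s (s c) - s (s (s c))) * s (s r)) * (S * S) = 0 := by
    intro a c r
    have h1 := hg a (c * r)
    have h2 : ι (s (s (s c))) * (ι ((a - s a) * r) + ι ((s (s a) - s a) * s (s r)) * (S * S)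
      + ι ((s (s (s a)) - s a) * s (s (s r))) * (S * (S * S))) = 0 := by rw [hg a r, mul_zero]
    simp only [mul_add, ← mul_assoc (ι (s (s (s c)))), ← map_mul] at h2
    have e1 : (a - s a) * (c - s (s (s c))) * r =
        (a - s a) * (c * r) - s (s (s c)) * ((a - s a) * r) := by ring
    have e2 : (s (s a) - s a) * (s (s c) - s (s (s c))) * s (s r) =
        (s (s a) - s a) * s (s (c * r)) - s (s (s c)) * ((s (s a) - s a) * s (s r)) := by
      rw [map_mul, map_mul]; ring
    have e3 : (s (s (s a)) - s a) * s (s (s (c * r))) =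
        s (s (s c)) * ((s (s (s a)) - s a) * s (s (s r))) := by
      rw [map_mul, map_mul, map_mul]; ring
    rw [e1, e2, map_sub ι, map_sub ι, sub_mul _ _ (S * S)]
    rw [e3] at h1
    rw [← sub_self (0 : E)]
    conv_rhs => arg 1; rw [← h1]
    conv_rhs => arg 2; rw [← h2]
    abel
  have h1 := hh a a a
  have h2 : ι (s (s a)) * (ι ((a - s a) * (a - s (s (s a))) * 1) +
      ι ((s (s a) - s a) * (s (s a) - s (s (s a))) * s (s 1)) * (S * S)) = 0 := by
    rw [hh a a 1, mul_zero]
  simp only [mul_add, ← mul_assoc (ι (s (s a))), ← map_mul] at h2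
  apply hι
  rw [map_zero]
  have e1 : (a - s a) * (a - s (s (s a))) * (a - s (s a)) =
      (a - s a) * (a - s (s (s a))) * a - s (s a) * ((a - s a) * (a - s (s (s a))) * 1) := by ring
  have e2 : (s (s a) - s a) * (s (s a) - s (s (s a))) * s (s a) =
      s (s a) * ((s (s a) - s a) * (s (s a) - s (s (s a))) * s (s 1)) := by
    rw [map_one, map_one]; ring
  rw [e1, map_sub]
  rw [e2] at h1
  rw [← sub_self (0 : E)]
  conv_rhs => arg 1; rw [← h1]
  conv_rhs => arg 2; rw [← h2]
  abel

theorem isNilpotent_sub_sq {R : Type*} [CommRing R] {p : ℕ} (hodd : Odd p) (hp : (p : R) = 0)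
    (s : R →+* R) (h4 : ∀ a, s (s (s (s a))) = a)
    (hkey : ∀ a : R, (a - s a) * (a - s (s (s a))) * (a - s (s a)) = 0) (a : R) :
    IsNilpotent (a - s (s a)) := by
  rw [← mem_nilradical, nilradical_eq_sInf, Submodule.mem_sInf]
  intro P hP
  let qm : R →+ R ⧸ P := (Ideal.Quotient.mk P).toAddMonoidHom
  let s₁ : R →+ R := s.toAddMonoidHom
  let k₁ : R →+ R ⧸ P := qm.comp (AddMonoidHom.id R - s₁)
  let k₂ : R →+ R ⧸ P := qm.comp (AddMonoidHom.id R - s₁.comp (s₁.comp s₁))
  let k₃ : R →+ R ⧸ P := qm.comp (AddMonoidHom.id R - s₁.comp s₁)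
  have hk1 : ∀ a, a ∈ k₁.ker ↔ a - s a ∈ P := fun a => Ideal.Quotient.eq_zero_iff_mem
  have hk2 : ∀ a, a ∈ k₂.ker ↔ a - s (s (s a)) ∈ P := fun a => Ideal.Quotient.eq_zero_iff_mem
  have hk3 : ∀ a, a ∈ k₃.ker ↔ a - s (s a) ∈ P := fun a => Ideal.Quotient.eq_zero_iff_mem
  have hcov : ∀ a, a ∈ k₁.ker ∨ a ∈ k₂.ker ∨ a ∈ k₃.ker := by
    intro a
    rw [hk1, hk2, hk3]
    rcases hP.mem_or_mem (show (a - s a) * (a - s (s (s a))) * (a - s (s a)) ∈ P by
      rw [hkey]; exact P.zero_mem) with h | h
    · rcases hP.mem_or_mem h with h | h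
      · exact Or.inl h
      · exact Or.inr (Or.inl h)
    · exact Or.inr (Or.inr h)
  have hx : ∀ x : R, p • x = 0 := fun x => by rw [nsmul_eq_mul, hp, zero_mul]
  rcases top_of_three hodd hx _ _ _ hcov with h | h | h
  · have h1 : ∀ x, x - s x ∈ P := fun x => (hk1 x).mp (h ▸ AddSubgroup.mem_top x)
    have := P.add_mem (h1 a) (h1 (s a))
    rwa [sub_add_sub_cancel] at this
  · have h1 : ∀ x, x - s (s (s x)) ∈ P := fun x => (hk2 x).mp (h ▸ AddSubgroup.mem_top x)
    have := P.add_mem (h1 a) (h1 (s (s (s a))))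
    rw [sub_add_sub_cancel, h4 (s (s a))] at this
    exact this
  · exact (hk3 a).mp (h ▸ AddSubgroup.mem_top a)

theorem pow_eq_one_of_nilpotent {R : Type*} [CommRing R] [Nontrivial R] {p : ℕ} [Fact p.Prime]
    (hp : (p : R) = 0) {u : R} (h : IsNilpotent (u - 1)) : ∃ k, u ^ p ^ k = 1 := by
  haveI : CharP R p := (CharP.charP_iff_prime_eq_zero (Fact.out : p.Prime)).mpr hp
  obtain ⟨k, hk⟩ := h
  refine ⟨k, ?_⟩
  have e : u = (u - 1) + 1 := (sub_add_cancel _ _).symm
  rw [e, add_pow_char_pow, one_pow,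
    pow_eq_zero_of_le (Nat.lt_pow_self (Fact.out : p.Prime).one_lt).le hk, zero_add]

/-- A commutative `p'`-group of automorphisms of an elementary abelian `p`-group normalised by a
fixed-point-free `σ` with `σ ^ 4 = 1` is centralised by `σ ^ 2`. -/
theorem sq_commute_of_abelian (hp2 : p ≠ 2) (hV : ∀ v : V, v ^ p = 1) (σ : MulAut V)
    (h4 : σ ^ 4 = 1) (hfpf : ∀ v : V, σ v = v → v = 1) (Q : Subgroup (MulAut V))
    (hQc : IsMulCommutative Q) (hQs : ∀ q ∈ Q, σ * q * σ⁻¹ ∈ Q)
    (hQp : ∀ q ∈ Q, (orderOf q).Coprime p) {q : MulAut V} (hq : q ∈ Q) :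
    σ * (σ * q * σ⁻¹) * σ⁻¹ = q := by
  rcases subsingleton_or_nontrivial V with hsub | hnt
  · ext v; exact Subsingleton.elim _ _
  set S : AddMonoid.End (Additive V) := toEnd V σ with hS
  have hS4 : S * (S * (S * S)) = 1 := by
    rw [hS, ← map_mul, ← map_mul, ← map_mul,
      show σ * (σ * (σ * σ)) = σ ^ 4 by simp [pow_succ, mul_assoc], h4, map_one]
  -- the operator `1 + S + S² + S³` kills everything
  have hN : (1 : AddMonoid.End (Additive V)) + S + S * S + S * (S * S) = 0 := by
    refine DFunLike.ext _ _ fun w => ?_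
    set v := w + S w + S (S w) + S (S (S w)) with hv
    have h1 : S v = v := by
      have h4' : S (S (S (S w))) = w :=
        congrArg (fun e : AddMonoid.End (Additive V) => e w) hS4
      rw [hv, map_add, map_add, map_add, h4']
      abel
    have h2 : v = 0 := hfpf (Additive.toMul v) h1
    exact h2
  -- the commutative ring generated by `Q`
  set X : Set (AddMonoid.End (Additive V)) := toEnd V '' (Q : Set (MulAut V)) with hX
  have hXc : ∀ a ∈ X, ∀ b ∈ X, a * b = b * a := by
    rintro _ ⟨a, ha, rfl⟩ _ ⟨b, hb, rfl⟩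
    rw [← map_mul, ← map_mul]
    exact congrArg (fun z : Q => toEnd V (z : MulAut V)) (hQc.is_comm.comm ⟨a, ha⟩ ⟨b, hb⟩)
  set R := Subring.closure X with hR
  letI : CommRing R := Subring.closureCommRingOfComm hXc
  set S' : AddMonoid.End (Additive V) := S * (S * S) with hS'
  have hSS' : S' * S = 1 := by rw [hS', mul_assoc, mul_assoc]; exact hS4
  have hSi : toEnd V σ⁻¹ = S' := by
    rw [hS', hS, ← map_mul, ← map_mul]
    congr 1
    rw [inv_eq_iff_mul_eq_one, show σ * (σ * (σ * σ)) = σ ^ 4 by simp [pow_succ, mul_assoc], h4]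
  have hmem : ∀ r ∈ R, S * r * S' ∈ R := by
    intro r hr
    induction hr using Subring.closure_induction with
    | mem x hx =>
      obtain ⟨a, ha, rfl⟩ := hx
      exact Subring.subset_closure ⟨_, hQs a ha, by rw [map_mul, map_mul, hSi]⟩
    | zero => rw [mul_zero, zero_mul]; exact R.zero_mem
    | one => rw [mul_one, show S * S' = 1 from hS4]; exact R.one_mem
    | add x y _ _ hx hy => rw [mul_add, add_mul]; exact R.add_mem hx hy
    | neg x _ hx =>
      have : S * -x * S' = -(S * x * S') := DFunLike.ext _ _ fun w => map_neg S (x (S' w))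
      rw [this]; exact R.neg_mem hx
    | mul x y _ _ hx hy =>
      have : S * (x * y) * S' = (S * x * S') * (S * y * S') := by
        simp only [mul_assoc]
        rw [← mul_assoc S' S, hSS', one_mul]
      rw [this]; exact R.mul_mem hx hy
  let s : R →+* R :=
    { toFun := fun r => ⟨S * (r : AddMonoid.End (Additive V)) * S', hmem r r.2⟩
      map_one' := Subtype.ext (by
        show S * (1 : AddMonoid.End (Additive V)) * S' = 1
        rw [mul_one]; exact hS4)
      map_mul' := fun a b => Subtype.ext (by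
        show S * ((a : AddMonoid.End (Additive V)) * b) * S' = (S * a * S') * (S * b * S')
        simp only [mul_assoc]
        rw [← mul_assoc S' S, hSS', one_mul])
      map_zero' := Subtype.ext (by
        show S * (0 : AddMonoid.End (Additive V)) * S' = 0
        rw [mul_zero, zero_mul])
      map_add' := fun a b => Subtype.ext (by
        show S * ((a : AddMonoid.End (Additive V)) + b) * S' = S * a * S' + S * b * S'
        rw [mul_add, add_mul]) }
  have s_coe : ∀ r : R, (s r : AddMonoid.End (Additive V)) =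
      S * (r : AddMonoid.End (Additive V)) * S' := fun r => rfl
  have s_four : ∀ a, s (s (s (s a))) = a := fun a => Subtype.ext (by
    simp only [s_coe]
    have h44 : S' * (S' * (S' * S')) = 1 := by
      rw [← hSi, ← map_mul, ← map_mul, ← map_mul,
        show σ⁻¹ * (σ⁻¹ * (σ⁻¹ * σ⁻¹)) = (σ ^ 4)⁻¹ by simp [pow_succ, mul_assoc], h4, inv_one, map_one]
    calc _ = S * (S * (S * S)) * (a : AddMonoid.End (Additive V)) * (S' * (S' * (S' * S'))) := by
          simp only [mul_assoc]
      _ = _ := by rw [hS4, h44, one_mul, mul_one])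
  let ι : R →+* AddMonoid.End (Additive V) :=
    { toFun := fun r => (r : AddMonoid.End (Additive V))
      map_one' := rfl
      map_mul' := fun _ _ => rfl
      map_zero' := rfl
      map_add' := fun _ _ => rfl }
  have hιi : Function.Injective ι := fun a b h => Subtype.ext h
  -- the identity `Σ sⁱ(r) Sⁱ = 0`
  have hF : ∀ r : R, ι r + ι (s r) * S + ι (s (s r)) * (S * S)
      + ι (s (s (s r))) * (S * (S * S)) = 0 := by
    intro r
    have e : ∀ x : R, ι (s x) * S = S * ι x := by
      intro x
      show S * (x : AddMonoid.End (Additive V)) * S' * S = _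
      rw [mul_assoc, hSS', mul_one]; rfl
    have e2 : ι (s (s r)) * (S * S) = S * S * ι r := by
      rw [← mul_assoc, e, mul_assoc, e, mul_assoc]
    have e3 : ι (s (s (s r))) * (S * (S * S)) = S * (S * S) * ι r := by
      rw [← mul_assoc, e, mul_assoc, e2, ← mul_assoc]
    rw [e, e2, e3]
    conv_lhs => arg 1; arg 1; arg 1; rw [← one_mul (ι r)]
    rw [← add_mul, ← add_mul, ← add_mul, hN, zero_mul]
  have hpR : (p : R) = 0 := by
    apply hιi
    rw [map_natCast, map_zero]
    refine DFunLike.ext _ _ fun w => ?_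
    rw [AddMonoid.End.natCast_apply]
    exact hV (Additive.toMul w)
  have hodd : Odd p := (Fact.out : p.Prime).odd_of_ne_two hp2
  -- unipotent
  set t : MulAut V := σ * (σ * q * σ⁻¹) * σ⁻¹ with ht
  have htQ : t ∈ Q := hQs _ (hQs _ hq)
  set u : MulAut V := q⁻¹ * t with hu
  have huQ : u ∈ Q := Q.mul_mem (Q.inv_mem hq) htQ
  let mkR : ∀ x ∈ Q, R := fun x hx => ⟨toEnd V x, Subring.subset_closure ⟨x, hx, rfl⟩⟩
  have hmkR : ∀ x hx, ι (mkR x hx) = toEnd V x := fun x hx => rfl
  have hnil : IsNilpotent (mkR u huQ - 1) := by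
    have he : mkR u huQ - 1 = mkR q⁻¹ (Q.inv_mem hq) * (s (s (mkR q hq)) - mkR q hq) := by
      apply hιi
      have e1 : ι (s (s (mkR q hq))) = toEnd V t := by
        show S * (S * (toEnd V q) * S') * S' = _
        rw [ht, map_mul, map_mul, map_mul, map_mul, hSi]
      rw [map_sub, map_mul, map_sub, map_one, e1, hmkR u huQ, hmkR q⁻¹ (Q.inv_mem hq), hmkR q hq, mul_sub, ← map_mul, ← map_mul,
        inv_mul_cancel, map_one, hu]
    rw [he]
    refine Commute.isNilpotent_mul_left (Commute.all _ _) ?_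
    rw [show s (s (mkR q hq)) - mkR q hq = -(mkR q hq - s (s (mkR q hq))) from (neg_sub _ _).symm]
    exact (isNilpotent_sub_sq hodd hpR s s_four (fun a => ring_key ι hιi S s hF a) _).neg
  haveI : Nontrivial R := by
    refine ⟨⟨0, 1, fun h01 => ?_⟩⟩
    obtain ⟨v, hv⟩ := exists_ne (1 : V)
    have := congrArg (fun x : R => ι x (Additive.ofMul v)) h01
    simp only [map_zero, map_one] at this
    exact hv (Additive.ofMul.injective this.symm)
  have hu1 : u = 1 := by
    obtain ⟨k, h1⟩ := pow_eq_one_of_nilpotent hpR hnil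
    have h2 : u ^ p ^ k = 1 := by
      apply toEnd_injective
      have := congrArg ι h1
      rw [map_pow, map_one, hmkR u huQ] at this
      rw [map_pow, map_one, this]
    rw [← orderOf_eq_one_iff]
    exact Nat.eq_one_of_dvd_coprimes ((hQp u huQ).pow_right k) dvd_rfl (orderOf_dvd_of_pow_eq_one h2)
  rw [hu, inv_mul_eq_one] at hu1
  rw [← hu1]

/-- The irreducible case: the automorphism group induced on the module is commutative. -/
theorem isMulCommutative_of_irreducible (hp2 : p ≠ 2) (hV : ∀ v : V, v ^ p = 1) (σ : MulAut V)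
    (h4 : σ ^ 4 = 1) (hfpf : ∀ v : V, σ v = v → v = 1) (H : Subgroup (MulAut V))
    (hsol : Group.IsSolvable H) (hs : ∀ h ∈ H, σ * h * σ⁻¹ ∈ H)
    (hHfpf : ∀ h ∈ H, σ * h * σ⁻¹ = h → h = 1)
    (hirr : ∀ W : Subgroup V, (∀ h ∈ H, ∀ w ∈ W, h w ∈ W) → (∀ w ∈ W, σ w ∈ W) → W = ⊥ ∨ W = ⊤) :
    IsMulCommutative H := by
  haveI : Finite (MulAut V) := Finite.of_injective (fun e : MulAut V => (e : V → V))
    DFunLike.coe_injective
  haveI := hsol
  have hinj : Function.Injective (fun h : H => (⟨σ * h * σ⁻¹, hs h h.2⟩ : H)) := by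
    intro a b hab
    exact Subtype.ext (mul_left_cancel (mul_right_cancel (congrArg Subtype.val hab)))
  let s : MulAut H := MulEquiv.ofBijective
    ({ toFun := fun h => ⟨σ * h * σ⁻¹, hs h h.2⟩
       map_one' := Subtype.ext (by simp)
       map_mul' := fun a b => Subtype.ext (by simp [mul_assoc]) } : H →* H)
    (Finite.injective_iff_bijective.mp hinj)
  have scoe : ∀ h : H, (s h : MulAut V) = σ * h * σ⁻¹ := fun h => rfl
  have s4 : s ^ 4 = 1 := by
    ext h : 1
    apply Subtype.ext
    simp only [pow_succ, pow_zero, one_mul, MulAut.mul_apply, scoe, MulAut.one_apply]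
    calc σ * (σ * (σ * (σ * (h : MulAut V) * σ⁻¹) * σ⁻¹) * σ⁻¹) * σ⁻¹
        = σ ^ 4 * (h : MulAut V) * (σ ^ 4)⁻¹ := by simp [pow_succ, mul_assoc]
      _ = _ := by rw [h4]; simp
  have sfpf : ∀ h : H, s h = h → h = 1 := fun h hh =>
    Subtype.ext (hHfpf h h.2 (congrArg Subtype.val hh))
  -- `O_p(H) = 1`
  have hcore : Cfsg.pCore p H = ⊥ := by
    set P := Cfsg.pCore p H
    haveI : P.Characteristic := PSolvable.pCore_characteristic
    haveI : P.Normal := inferInstance
    have hP : IsPGroup p P := PSolvable.pCore_isPGroup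
    rcases subsingleton_or_nontrivial V with hsub | hnt
    · rw [eq_bot_iff]
      intro x _
      exact Subtype.ext (by ext v; exact Subsingleton.elim _ _)
    let PV : Subgroup (MulAut V) := P.map H.subtype
    have hPV : IsPGroup p PV := hP.map _
    let W : Subgroup V :=
      { carrier := {v | ∀ x ∈ PV, x v = v}
        one_mem' := fun x _ => map_one x
        mul_mem' := fun {a b} ha hb x hx => by rw [map_mul, ha x hx, hb x hx]
        inv_mem' := fun {a} ha x hx => by rw [map_inv, ha x hx] }
    have hWH : ∀ h ∈ H, ∀ w ∈ W, h w ∈ W := by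
      intro h hh w hw x hx
      obtain ⟨y, hy, rfl⟩ := hx
      have h1 : (h⁻¹ * (y : MulAut V) * h) w = w :=
        hw _ ⟨⟨h, hh⟩⁻¹ * y * ⟨h, hh⟩, by
          have := (inferInstance : P.Normal).conj_mem y hy (⟨h, hh⟩ : H)⁻¹
          simpa using this, by simp⟩
      have h2 := congrArg h h1
      simpa using h2
    have hWs : ∀ w ∈ W, σ w ∈ W := by
      intro w hw x hx
      obtain ⟨y, hy, rfl⟩ := hx
      have hy' : s.symm y ∈ P := by
        have := Subgroup.characteristic_iff_le_comap.mp (inferInstance : P.Characteristic) s.symm hy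
        exact this
      have h1 := hw _ ⟨_, hy', rfl⟩
      have h2 : σ * (s.symm y : MulAut V) * σ⁻¹ = y := by rw [← scoe, MulEquiv.apply_symm_apply]
      show (y : MulAut V) (σ w) = σ w
      rw [← h2, MulAut.mul_apply, MulAut.mul_apply, MulAut.inv_apply_self]
      exact congrArg σ h1
    have hWne : W ≠ ⊥ := by
      intro hW
      have hdvd : p ∣ Nat.card V := by
        obtain ⟨n, hn⟩ := IsPGroup.iff_card.mp (fun v : V => ⟨1, by rw [pow_one]; exact hV v⟩ : IsPGroup p V)
        rw [hn]
        refine dvd_pow_self p fun h0 => ?_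
        rw [h0, pow_zero] at hn
        exact Finite.one_lt_card.ne' hn
      obtain ⟨b, hb, hb1⟩ := hPV.exists_fixed_point_of_prime_dvd_card_of_fixed_point (α := V) hdvd
        (a := 1) (fun x => map_one (x : MulAut V))
      have : b ∈ W := fun x hx => hb ⟨x, hx⟩
      rw [hW, Subgroup.mem_bot] at this
      exact hb1 this.symm
    rw [eq_bot_iff]
    intro y hy
    rw [Subgroup.mem_bot]
    apply Subtype.ext
    ext v
    exact ((hirr W hWH hWs).resolve_left hWne ▸ Subgroup.mem_top v : v ∈ W) _ ⟨y, hy, rfl⟩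
  -- `F(H)`
  set F := Cfsg.fittingSubgroup H
  haveI : F.Characteristic := Fitting.fittingSubgroup_characteristic
  haveI : F.Normal := Fitting.fittingSubgroup_normal
  haveI : Group.IsNilpotent F := Fitting.isNilpotent_fittingSubgroup
  have hFp : (Nat.card F).Coprime p := by
    have := Fitting.not_dvd_relIndex_pCore_fitting (G := H) p
    rw [hcore, Subgroup.relIndex_bot_left] at this
    exact ((Fact.out : p.Prime).coprime_iff_not_dvd.mpr this).symm
  have hsF : ∀ f ∈ F, s f ∈ F := fun f hf =>
    Subgroup.characteristic_iff_le_comap.mp (inferInstance : F.Characteristic) s hf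
  have hinjF : Function.Injective (fun f : F => (⟨s (f : H), hsF f f.2⟩ : F)) := by
    intro a b hab
    exact Subtype.ext (s.injective (congrArg Subtype.val hab))
  let sF : MulAut F := MulEquiv.ofBijective
    ({ toFun := fun f => ⟨s (f : H), hsF f f.2⟩
       map_one' := Subtype.ext (map_one s)
       map_mul' := fun a b => Subtype.ext (map_mul s (a : H) (b : H)) } : F →* F)
    (Finite.injective_iff_bijective.mp hinjF)
  have sFcoe : ∀ f : F, (sF f : H) = s (f : H) := fun f => rfl
  have sF4 : sF ^ 4 = 1 := by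
    ext f : 1
    apply Subtype.ext
    simp only [pow_succ, pow_zero, one_mul, MulAut.mul_apply, sFcoe, MulAut.one_apply]
    exact pow_four_apply s4 _
  have htF : ∀ f : F, sF (sF f) = f := by
    refine sq_apply_eq_of_abelian sF sF4
      (fun f hf => Subtype.ext (sfpf f (congrArg Subtype.val hf))) ?_
    intro A hA hAs a ha
    haveI := hA
    let ι : F →* MulAut V := H.subtype.comp F.subtype
    have hc : IsMulCommutative (A.map ι) := by
      refine IsMulCommutative.of_comm fun x y => ?_
      obtain ⟨_, x', hx', rfl⟩ := x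
      obtain ⟨_, y', hy', rfl⟩ := y
      apply Subtype.ext
      simp only [Subgroup.coe_mul, ← map_mul]
      exact congrArg ι (congrArg Subtype.val (hA.is_comm.comm ⟨x', hx'⟩ ⟨y', hy'⟩))
    have key := sq_commute_of_abelian hp2 hV σ h4 hfpf (A.map ι) hc
      (by rintro _ ⟨x, hx, rfl⟩; exact ⟨sF x, hAs x hx, rfl⟩)
      (by
        rintro _ ⟨x, -, rfl⟩
        exact hFp.coprime_dvd_left ((orderOf_map_dvd ι x).trans (orderOf_dvd_natCard x)))
      (q := ι a) ⟨a, ha, rfl⟩
    exact Subtype.ext (Subtype.ext key)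
  have hsq : ∀ x : H, s (s x) = x := by
    intro x
    set u := x⁻¹ * s (s x) with hu
    have htF' : ∀ f ∈ F, s (s f) = f := fun f hf => congrArg Subtype.val (htF ⟨f, hf⟩)
    have huC : u ∈ Subgroup.centralizer (F : Set H) := by
      rw [Subgroup.mem_centralizer_iff]
      intro f hf
      have h1 := htF' _ ((inferInstance : F.Normal).conj_mem f hf x)
      simp only [map_mul, map_inv, htF' f hf] at h1
      have h2 : s (s x) * f = x * f * x⁻¹ * s (s x) := by rw [← h1]; group
      rw [hu, mul_assoc, h2]; group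
    have hut : s (s u) = u := htF' _ (Fitting.centralizer_fittingSubgroup_le huC)
    have hxu : s (s x) = x * u := by rw [hu]; group
    have huu : u * u = 1 := by
      have h1 := pow_four_apply s4 x
      rw [hxu, map_mul, map_mul, hxu, hut, mul_assoc] at h1
      exact mul_eq_left.mp h1
    rw [hxu, eq_one_of_sq (odd_card s4 sfpf) huu, mul_one]
  exact IsMulCommutative.of_comm (mul_comm_of_sq s sfpf hsq)

theorem commutator_nilpotent_aux : ∀ (n : ℕ) (G : Type u) [Group G] [Finite G], Nat.card G ≤ n →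
    Group.IsSolvable G → ∀ σ : MulAut G, σ ^ 4 = 1 → (∀ g : G, σ g = g → g = 1) →
    Group.IsNilpotent (commutator G) := by
  intro n
  induction n with
  | zero => intro G _ _ hn; exact absurd hn (Nat.not_le.mpr Nat.card_pos)
  | succ n ih =>
    intro G _ _ hn hsol σ h4 hfpf
    haveI := hsol
    rcases subsingleton_or_nontrivial G with hsub | hnt
    · infer_instance
    classical
    obtain ⟨V, -, hVmin⟩ := (Set.toFinite
      {N : Subgroup G | N.Normal ∧ N ≠ ⊥ ∧ ∀ x ∈ N, σ x ∈ N}).exists_le_minimal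
      (a := ⊤) ⟨inferInstance, top_ne_bot, fun x _ => trivial⟩
    obtain ⟨hVn, hVne, hVs⟩ := hVmin.prop
    haveI := hVn
    have hmin : ∀ N : Subgroup G, N.Normal → (∀ x ∈ N, σ x ∈ N) → N ≤ V → N = ⊥ ∨ N = V :=
      fun N h1 h2 h3 => (em (N = ⊥)).imp_right fun hne => (hVmin.eq_of_le ⟨h1, hne, h2⟩ h3)
    -- `V` is elementary abelian
    have hcommV : ⁅V, V⁆ = ⊥ := by
      refine (hmin _ inferInstance ?_ (Subgroup.commutator_le_left V V)).resolve_right
        (Group.IsSolvable.commutator_lt_of_ne_bot hVne).ne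
      intro x hx
      have h1 : V.map σ.toMonoidHom ≤ V := by rintro _ ⟨y, hy, rfl⟩; exact hVs y hy
      have h2 : (⁅V, V⁆).map σ.toMonoidHom ≤ ⁅V, V⁆ := by
        rw [Subgroup.map_commutator]; exact Subgroup.commutator_mono h1 h1
      exact h2 ⟨x, hx, rfl⟩
    haveI hVc : IsMulCommutative V := Subgroup.commutator_self_eq_bot_iff.mp hcommV
    set p := (Nat.card V).minFac with hpdef
    have hVcard : Nat.card V ≠ 1 := fun h => hVne (Subgroup.card_eq_one.mp h)
    haveI : Fact p.Prime := ⟨Nat.minFac_prime hVcard⟩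
    have hoddG := odd_card h4 hfpf
    have hp2 : p ≠ 2 := by
      intro h2
      have : 2 ∣ Nat.card G := (h2.symm.dvd.trans (Nat.minFac_dvd (Nat.card V))).trans V.card_subgroup_dvd_card
      exact (Nat.not_odd_iff_even.mpr (even_iff_two_dvd.mpr this)) hoddG
    have hcV : ∀ a ∈ V, ∀ b ∈ V, a * b = b * a := fun a ha b hb =>
      congrArg Subtype.val (hVc.is_comm.comm ⟨a, ha⟩ ⟨b, hb⟩)
    let W : Subgroup G :=
      { carrier := {v | v ∈ V ∧ v ^ p = 1}
        one_mem' := ⟨V.one_mem, one_pow p⟩
        mul_mem' := fun {a b} ha hb => ⟨V.mul_mem ha.1 hb.1, by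
          rw [(show Commute a b from hcV a ha.1 b hb.1).mul_pow, ha.2, hb.2, one_mul]⟩
        inv_mem' := fun {a} ha => ⟨V.inv_mem ha.1, by rw [inv_pow, ha.2, inv_one]⟩ }
    have hWV : W = V := by
      refine (hmin W ⟨fun v hv g => ⟨hVn.conj_mem v hv.1 g, by rw [conj_pow, hv.2]; group⟩⟩
        (fun v hv => ⟨hVs v hv.1, by rw [← map_pow, hv.2, map_one]⟩) fun v hv => hv.1).resolve_left ?_
      intro hb
      obtain ⟨x, hx⟩ := exists_prime_orderOf_dvd_card' (G := V) p (Nat.minFac_dvd _)
      have hxW : (x : G) ∈ W := ⟨x.2, by rw [← Subgroup.coe_pow, ← hx, pow_orderOf_eq_one]; rfl⟩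
      rw [hb, Subgroup.mem_bot, OneMemClass.coe_eq_one] at hxW
      rw [hxW, orderOf_one] at hx
      exact (Fact.out : p.Prime).ne_one hx.symm
    open scoped IsMulCommutative in
    have hab : IsMulCommutative (MulAut.conjNormal (H := V) : G →* MulAut V).range := by
      have hinj : Function.Injective (fun v : V => (⟨σ (v : G), hVs v v.2⟩ : V)) := fun a b hab =>
        Subtype.ext (σ.injective (congrArg Subtype.val hab))
      let σV : MulAut V := MulEquiv.ofBijective
        ({ toFun := fun v => ⟨σ (v : G), hVs v v.2⟩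
           map_one' := Subtype.ext (map_one σ)
           map_mul' := fun a b => Subtype.ext (map_mul σ (a : G) (b : G)) } : V →* V)
        (Finite.injective_iff_bijective.mp hinj)
      have σVcoe : ∀ v : V, (σV v : G) = σ (v : G) := fun v => rfl
      set φ : G →* MulAut V := MulAut.conjNormal with hφ
      have hcompat : ∀ g, σV * φ g * σV⁻¹ = φ (σ g) := by
        intro g
        rw [mul_inv_eq_iff_eq_mul]
        ext v
        simp [σVcoe, hφ]
      refine isMulCommutative_of_irreducible (p := p) hp2 (fun v => ?_) σV ?_ ?_ φ.range ?_ ?_ ?_ ?_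
      · exact Subtype.ext (by
          rw [Subgroup.coe_pow]; exact (hWV.symm ▸ v.2 : (v : G) ∈ W).2)
      · ext v
        simp only [pow_succ, pow_zero, one_mul, MulAut.mul_apply, σVcoe, MulAut.one_apply]
        exact pow_four_apply h4 _
      · exact fun v hv => Subtype.ext (hfpf v (congrArg Subtype.val hv))
      · exact Group.isSolvable_of_surjective φ.rangeRestrict_surjective
      · rintro _ ⟨g, rfl⟩; exact ⟨σ g, (hcompat g).symm⟩
      · rintro _ ⟨g, rfl⟩ hh
        rw [hcompat] at hh
        refine (MonoidHom.mem_ker).mp (mem_of_inv_mul_mem σ hfpf (N := φ.ker) ?_ ?_)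
        · intro k hk
          rw [MonoidHom.mem_ker] at hk ⊢
          rw [← hcompat, hk, mul_one, mul_inv_cancel]
        · rw [MonoidHom.mem_ker, map_mul, map_inv, hh, inv_mul_cancel]
      · intro U hU hUs
        have hn : (U.map V.subtype).Normal := by
          refine ⟨?_⟩
          rintro _ ⟨w, hw, rfl⟩ g
          exact ⟨φ g w, hU _ ⟨g, rfl⟩ w hw, by simp [hφ]⟩
        rcases hmin _ hn (by rintro _ ⟨w, hw, rfl⟩; exact ⟨σV w, hUs w hw, rfl⟩)
          (Subgroup.map_subtype_le U) with h | h
        · exact Or.inl ((Subgroup.map_eq_bot_iff_of_injective U V.subtype_injective).mp h)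
        · right
          apply Subgroup.map_injective V.subtype_injective
          rw [h, ← MonoidHom.range_eq_map, Subgroup.range_subtype]
    have hcent : ∀ x ∈ commutator G, ∀ v ∈ V, x * v = v * x := by
      intro x hx v hv
      have h1 : commutator G ≤ (MulAut.conjNormal (H := V) : G →* MulAut V).ker := by
        rw [commutator_def, Subgroup.commutator_le]
        intro a _ b _
        rw [MonoidHom.mem_ker, map_commutatorElement, commutatorElement_eq_one_iff_mul_comm]
        exact congrArg Subtype.val (hab.is_comm.comm ⟨_, a, rfl⟩ ⟨_, b, rfl⟩)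
      have h2 := congrArg (fun e : MulAut V => ((e ⟨v, hv⟩ : V) : G)) (MonoidHom.mem_ker.mp (h1 hx))
      simp only [MulAut.conjNormal_apply, MulAut.one_apply] at h2
      calc x * v = (x * v * x⁻¹) * x := by group
        _ = v * x := by rw [h2]
    -- the quotient
    have hmapV : V.map σ.toMonoidHom = V := by
      refine Subgroup.eq_of_le_of_card_ge (by rintro _ ⟨y, hy, rfl⟩; exact hVs y hy) ?_
      rw [Subgroup.card_map_of_injective (f := σ.toMonoidHom) σ.injective]
    let σQ : MulAut (G ⧸ V) := QuotientGroup.congr V V σ hmapV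
    have σQmk : ∀ g : G, σQ (g : G ⧸ V) = (σ g : G ⧸ V) := fun g => rfl
    have hQcard : Nat.card (G ⧸ V) ≤ n := by
      have h1 := V.card_eq_card_quotient_mul_card_subgroup
      have h2 : 1 < Nat.card V := (Subgroup.one_lt_card_iff_ne_bot V).mpr hVne
      have h3 : 0 < Nat.card (G ⧸ V) := Nat.card_pos
      nlinarith
    have hnilQ : Group.IsNilpotent (commutator (G ⧸ V)) := by
      refine ih (G ⧸ V) hQcard inferInstance σQ ?_ ?_
      · apply MulEquiv.ext
        intro x
        induction x using QuotientGroup.induction_on with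
        | _ g =>
          simp only [pow_succ, pow_zero, one_mul, MulAut.mul_apply, σQmk, MulAut.one_apply]
          rw [pow_four_apply h4]
      · intro x
        induction x using QuotientGroup.induction_on with
        | _ g =>
          rw [σQmk, eq_comm, QuotientGroup.eq, QuotientGroup.eq_one_iff]
          exact fun h => mem_of_inv_mul_mem σ hfpf hVs h
    have hle : ∀ x : commutator G, QuotientGroup.mk' V (x : G) ∈ commutator (G ⧸ V) := by
      intro x
      have h1 : (commutator G).map (QuotientGroup.mk' V) ≤ commutator (G ⧸ V) := by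
        rw [commutator_def, commutator_def, Subgroup.map_commutator]
        exact Subgroup.commutator_mono le_top le_top
      exact h1 ⟨x, x.2, rfl⟩
    let f : commutator G →* commutator (G ⧸ V) :=
      ((QuotientGroup.mk' V).comp (commutator G).subtype).codRestrict _ hle
    haveI := hnilQ
    refine Subgroup.isNilpotent_of_ker_le_center f ?_
    intro x hx
    have hxV : (x : G) ∈ V :=
      (QuotientGroup.eq_one_iff _).mp (congrArg Subtype.val (MonoidHom.mem_ker.mp hx))
    exact Subgroup.mem_center_iff.mpr fun y => Subtype.ext (hcent y y.2 x hxV)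

/-- A solvable group with a fixed-point-free automorphism `σ`, `σ ^ 4 = 1`, has nilpotent derived
subgroup. -/
theorem commutator_isNilpotent {G : Type u} [Group G] [Finite G] (hG : Group.IsSolvable G)
    (σ : MulAut G) (hσ : σ ^ 4 = 1) (hfpf : ∀ g : G, σ g = g → g = 1) :
    Group.IsNilpotent (commutator G) :=
  commutator_nilpotent_aux _ G le_rfl hG σ hσ hfpf

end Cfsg.Agent.Lib.FpfFour
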